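import Groth.Agent.CIBaseChange.Field
import Mathlib.FieldTheory.IntermediateField.Adjoin.Algebra
import Mathlib.FieldTheory.FinTrdeg

/-!
# Complete intersections after a finitely generated field extension
-/

set_option autoImplicit false
set_option linter.style.haveILetI false
set_option backward.isDefEq.respectTransparency false

universe u

open TensorProduct

namespace Groth.Agent.CIBaseChange

open Groth.Agent

/-- Complete intersection local rings are transported by isomorphisms. -/
theorem ci_atPrime_of_ringEquiv {A B : Type u} [CommRing A] [CommRing B] [IsNoetherianRing A] (e : A ≃+* B)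
    (h : ∀ (P : Ideal A) [P.IsPrime], Pi1.IsCompleteIntersection (Localization.AtPrime P))
    (Q : Ideal B) [Q.IsPrime] : Pi1.IsCompleteIntersection (Localization.AtPrime Q) := by
  let P := Q.comap e.toRingHom
  haveI : IsNoetherianRing (Localization.AtPrime P) := IsLocalization.isNoetherianRing P.primeCompl _ inferInstance
  refine ci_of_ringEquiv (IsLocalization.ringEquivOfRingEquiv (M := P.primeCompl) (T := Q.primeCompl)
    (Localization.AtPrime P) (Localization.AtPrime Q) e ?_) (h P)
  ext y
  refine ⟨?_, fun hy => ⟨e.symm y, fun hc => hy ?_, e.apply_symm_apply y⟩⟩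
  · rintro ⟨x, hx, rfl⟩ hc
    exact hx hc
  · have h' : e (e.symm y) ∈ Q := hc
    rwa [e.apply_symm_apply] at h'

/-- A local complete intersection algebra stays one after a field extension essentially of finite type. -/
theorem ci_tensor_essFin (k K R : Type u) [Field k] [Field K] [Algebra k K] [Algebra.EssFiniteType k K]
    [CommRing R] [Algebra k R] [IsNoetherianRing R]
    (hR : ∀ (p : Ideal R) [p.IsPrime], Pi1.IsCompleteIntersection (Localization.AtPrime p)) :
    IsNoetherianRing (K ⊗[k] R) ∧
      ∀ (P : Ideal (K ⊗[k] R)) [P.IsPrime], Pi1.IsCompleteIntersection (Localization.AtPrime P) := by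
  haveI : IsNoetherianRing (R ⊗[k] K) := Algebra.EssFiniteType.isNoetherianRing R _
  have hci : ∀ (P : Ideal (R ⊗[k] K)) [P.IsPrime], Pi1.IsCompleteIntersection (Localization.AtPrime P) := by
    intro P _
    refine ci_of_flat_of_fibres R (R ⊗[k] K) hR (fun p _ q _ => ?_) P
    haveI : IsNoetherianRing (p.ResidueField ⊗[k] K) := Algebra.EssFiniteType.isNoetherianRing p.ResidueField _
    haveI : IsNoetherianRing (K ⊗[k] p.ResidueField) :=
      isNoetherianRing_of_ringEquiv _ (Algebra.TensorProduct.comm k p.ResidueField K).toRingEquiv
    exact ci_atPrime_of_ringEquiv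
      ((Algebra.TensorProduct.comm k K p.ResidueField).toRingEquiv.trans
        (Algebra.TensorProduct.cancelBaseChange k R p.ResidueField p.ResidueField K).symm.toRingEquiv)
      (fun P _ => ci_field_tensor k K p.ResidueField P) q
  let e := (Algebra.TensorProduct.comm k R K).toRingEquiv
  exact ⟨isNoetherianRing_of_ringEquiv _ e, fun P _ => ci_atPrime_of_ringEquiv e hci P⟩

end Groth.Agent.CIBaseChange
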